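import Groth.Agent.LimLib.Smooth

/-!
# Descent to a stage of properties local on the source

The base may be arbitrary: only the source is covered by affine opens landing in affine opens
of the target.
-/

set_option backward.isDefEq.respectTransparency false
set_option backward.defeqAttrib.useBackward true

universe u

open CategoryTheory Limits AlgebraicGeometry TopologicalSpace Groth.Agent.LimLib

namespace Groth.Agent.Unram17Lim

variable {I : Type u} [SmallCategory I] {D : I ⥤ Scheme.{u}} {c : Cone D} {i₀ : I}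
  {Y₀ Y X₀ X : Scheme.{u}} {g₀ : Y₀ ⟶ D.obj i₀} {qY : Y ⟶ Y₀} {g : Y ⟶ c.pt}
  {f₀ : X₀ ⟶ Y₀} {f : X ⟶ Y} {qX : X ⟶ X₀}
  {P : MorphismProperty Scheme.{u}}

/-- A point has an affine open neighbourhood landing in an affine open of the target. -/
theorem exists_affine_pair (f₀ : X₀ ⟶ Y₀) (x : X₀) :
    ∃ (W : X₀.Opens) (V : Y₀.Opens), IsAffineOpen W ∧ IsAffineOpen V ∧ x ∈ W ∧ W ≤ f₀ ⁻¹ᵁ V := by
  obtain ⟨V, hV, hxV, -⟩ :=
    Opens.isBasis_iff_nbhd.mp Y₀.isBasis_affineOpens (U := ⊤) (x := f₀ x) trivial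
  obtain ⟨W, hW, hxW, hWV⟩ :=
    Opens.isBasis_iff_nbhd.mp X₀.isBasis_affineOpens (U := f₀ ⁻¹ᵁ V) (x := x) hxV
  exact ⟨W, V, hW, hV, hxW, hWV⟩

/-- Smoothness near a point passes from a stage to the limit. -/
theorem nhd_limit_of_stage [P.IsStableUnderBaseChange]
    (hY : IsPullback qY g g₀ (c.π.app i₀)) (hX : IsPullback qX f f₀ qY) (x : X)
    (h : ∃ (j : I) (φ : j ⟶ i₀) (Xj Yj : Scheme.{u}) (fj : Xj ⟶ Yj) (gj : Yj ⟶ D.obj j)
      (pY : Yj ⟶ Y₀) (pX : Xj ⟶ X₀) (rX : X ⟶ Xj), IsPullback pY gj g₀ (D.map φ) ∧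
      IsPullback pX fj f₀ pY ∧ rX ≫ pX = qX ∧ rX ≫ fj ≫ gj = f ≫ g ≫ c.π.app j ∧
      ∃ V : Xj.Opens, rX.base x ∈ V ∧ P (V.ι ≫ fj)) :
    ∃ U : X.Opens, x ∈ U ∧ P (U.ι ≫ f) := by
  obtain ⟨j, φ, Xj, Yj, fj, gj, pY, pX, rX, hYj, hXj, hr₁, hr₂, V, hxV, hV⟩ := h
  let qYj : Y ⟶ Yj := hYj.lift qY (g ≫ c.π.app j) (by rw [hY.w, Category.assoc, c.w])
  have hw : rX ≫ fj = f ≫ qYj := by
    apply hYj.hom_ext
    · simp only [qYj, Category.assoc, IsPullback.lift_fst]
      rw [← hXj.w, reassoc_of% hr₁, hX.w]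
    · simpa [qYj] using hr₂
  have hsq : IsPullback rX f fj qYj := IsPullback.of_right (by simpa [qYj, hr₁] using hX) hw hXj
  exact ⟨rX ⁻¹ᵁ V, hxV, P.of_isPullback ((isPullback_morphismRestrict rX V).paste_vert hsq) hV⟩

/-- A property local on the source passes along open immersions landing in an open where it holds. -/
theorem comp_of_range_le [IsZariskiLocalAtSource P] {A B C : Scheme.{u}} {U : B.Opens} {f : B ⟶ C}
    (hU : P (U.ι ≫ f)) (a : A ⟶ B) [IsOpenImmersion a] (ha : ∀ p, a p ∈ U) : P (a ≫ f) := by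
  have hr : Set.range a ⊆ Set.range U.ι := by
    rw [Scheme.Opens.range_ι]
    rintro _ ⟨p, rfl⟩
    exact ha p
  have := IsZariskiLocalAtSource.comp hU (IsOpenImmersion.lift U.ι a hr)
  rwa [← Category.assoc, IsOpenImmersion.lift_fac] at this

theorem opensRange_ι_comp [P.RespectsIso] {A B C : Scheme.{u}} {e : A ⟶ B} [IsOpenImmersion e] {f : B ⟶ C}
    (he : P (e ≫ f)) : P (e.opensRange.ι ≫ f) := by
  rw [← e.isoOpensRange_inv_comp, Category.assoc, P.cancel_left_of_respectsIso]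
  exact he

variable [IsCofiltered I] [∀ (i j : I) (a : i ⟶ j), IsAffineHom (D.map a)]
  [P.IsStableUnderBaseChange] [P.IsMultiplicative] [IsZariskiLocalAtSource P]

/-- Descent to a stage when the morphism factors through an affine open of the target. -/
theorem exists_stage_of_factor (h : Descends P @LocallyOfFinitePresentation) (hc : IsLimit c)
    [CompactSpace X₀] [QuasiSeparatedSpace X₀] {V : Scheme.{u}} [IsAffine V] (u : X₀ ⟶ V)
    (b : V ⟶ Y₀) [IsOpenImmersion b] (hub : u ≫ b = f₀) [LocallyOfFinitePresentation f₀]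
    (hY : IsPullback qY g g₀ (c.π.app i₀)) (hX : IsPullback qX f f₀ qY) (hP : P f) :
    ∃ (j : I) (φ : j ⟶ i₀), P (pullback.snd f₀ (pullback.fst g₀ (D.map φ))) := by
  subst hub
  have : LocallyOfFinitePresentation u :=
    MorphismProperty.of_postcomp (W' := @LocallyOfFiniteType) @LocallyOfFinitePresentation u b
      (inferInstance : LocallyOfFiniteType b) ‹_›
  have hY' : IsPullback (pullback.fst b qY) (pullback.snd b qY ≫ g) (b ≫ g₀) (c.π.app i₀) :=
    (IsPullback.of_hasPullback b qY).paste_vert hY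
  let fV : X ⟶ pullback b qY := pullback.lift (qX ≫ u) f (by rw [Category.assoc, hX.w])
  have hX' : IsPullback qX fV u (pullback.fst b qY) :=
    IsPullback.of_bot (by simpa [fV] using hX) (by simp [fV]) (IsPullback.of_hasPullback b qY)
  have hPV : P fV := by
    refine P.of_isPullback (f := pullback.snd b qY) (g := f) (f' := 𝟙 X) ?_ hP
    exact (IsPullback.of_horiz_isIso_mono (CommSq.mk (by simp [fV])))
  obtain ⟨j, φ, Xj, Yj, fj, gj, pY, pX, hYj, hXj, hPj⟩ :=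
    h.exists_stage hc u hY' hX' inferInstance hPV
  let e : Yj ⟶ pullback g₀ (D.map φ) := pullback.lift (pY ≫ b) gj (by rw [Category.assoc, hYj.w])
  have he : IsPullback pY e b (pullback.fst g₀ (D.map φ)) :=
    IsPullback.of_bot (by simpa [e] using hYj) (by simp [e]) (IsPullback.of_hasPullback _ _)
  have : IsOpenImmersion e := MorphismProperty.of_isPullback (P := @IsOpenImmersion) he ‹_›
  refine ⟨j, φ, ?_⟩
  rw [← (hXj.paste_vert he).isoPullback_inv_snd, P.cancel_left_of_respectsIso]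
  exact P.comp_mem _ _ hPj (IsZariskiLocalAtSource.of_isOpenImmersion _)

/-- Descent to a stage over an arbitrary base, the source being quasi-compact. -/
theorem exists_stage_of_source (h : Descends P @LocallyOfFinitePresentation) (hc : IsLimit c)
    [CompactSpace X₀] [LocallyOfFinitePresentation f₀]
    (hY : IsPullback qY g g₀ (c.π.app i₀)) (hX : IsPullback qX f f₀ qY) (hP : P f) :
    ∃ (j : I) (φ : j ⟶ i₀), P (pullback.snd f₀ (pullback.fst g₀ (D.map φ))) := by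
  choose W V hW hV hxW hWV using exists_affine_pair f₀
  let 𝒰 := (X₀.openCoverOfIsOpenCover W
    (IsOpenCover.mk (top_le_iff.mp fun x _ => Opens.mem_iSup.mpr ⟨x, hxW x⟩))).finiteSubcover
  have key (a : 𝒰.I₀) : ∃ (j : I) (φ : j ⟶ i₀),
      P (pullback.snd (𝒰.f a ≫ f₀) (pullback.fst g₀ (D.map φ))) := by
    obtain ⟨x, hx⟩ : ∃ x, (𝒰.f a).opensRange ≤ f₀ ⁻¹ᵁ V x ∧ IsAffine (𝒰.X a) :=
      ⟨_, (Scheme.Opens.opensRange_ι _).le.trans (hWV _), hW _⟩
    have : IsAffine (𝒰.X a) := hx.2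
    have : IsAffine (V x : Scheme.{u}) := hV x
    let u : 𝒰.X a ⟶ V x := IsOpenImmersion.lift (V x).ι (𝒰.f a ≫ f₀) (by
      rw [Scheme.Opens.range_ι]
      rintro _ ⟨p, rfl⟩
      exact hx.1 ⟨p, rfl⟩)
    exact exists_stage_of_factor h hc u (V x).ι (IsOpenImmersion.lift_fac _ _ _) hY
      ((IsPullback.of_hasPullback (𝒰.f a) qX).paste_vert hX) (IsZariskiLocalAtSource.comp hP _)
  choose j φ hj using key
  obtain ⟨k, φ₀, ψ, hψ⟩ := IsCofiltered.wideCospan φ
  refine ⟨k, φ₀, IsZariskiLocalAtSource.of_openCover (P := P)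
    (𝒰.pullback₁ (pullback.fst f₀ (pullback.fst g₀ (D.map φ₀)))) fun a => ?_⟩
  refine property_of_factor (IsPullback.of_hasPullback _ _)
    ((IsPullback.of_hasPullback _ _).flip.paste_vert (IsPullback.of_hasPullback f₀ _))
    (pullback.lift (pullback.fst _ _) (pullback.snd _ _ ≫ D.map (ψ a))
      (by rw [pullback.condition, Category.assoc, ← D.map_comp, hψ])) (by simp) (hj a)

/-- `exists_stage_of_source`, in the form of a pair of pullback squares. -/
theorem exists_stage_of_source' (h : Descends P @LocallyOfFinitePresentation) (hc : IsLimit c)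
    [CompactSpace X₀] [LocallyOfFinitePresentation g₀] [LocallyOfFinitePresentation (f₀ ≫ g₀)]
    (hY : IsPullback qY g g₀ (c.π.app i₀)) (hX : IsPullback qX f f₀ qY) (hP : P f) :
    ∃ (j : I) (φ : j ⟶ i₀) (Xj Yj : Scheme.{u}) (fj : Xj ⟶ Yj) (gj : Yj ⟶ D.obj j)
      (pY : Yj ⟶ Y₀) (pX : Xj ⟶ X₀),
      IsPullback pY gj g₀ (D.map φ) ∧ IsPullback pX fj f₀ pY ∧ P fj := by
  have : LocallyOfFinitePresentation f₀ :=
    MorphismProperty.of_postcomp (W' := @LocallyOfFiniteType) @LocallyOfFinitePresentation f₀ g₀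
      (inferInstance : LocallyOfFiniteType g₀) ‹_›
  obtain ⟨j, φ, hj⟩ := exists_stage_of_source h hc hY hX hP
  exact ⟨j, φ, _, _, _, _, _, _, IsPullback.of_hasPullback _ _, IsPullback.of_hasPullback _ _, hj⟩

set_option maxHeartbeats 400000 in
/-- Descent to a stage of a property near a point. -/
theorem exists_stage_nhd (h : Descends P @LocallyOfFinitePresentation) (hc : IsLimit c)
    [LocallyOfFinitePresentation g₀] [LocallyOfFinitePresentation (f₀ ≫ g₀)]
    (hY : IsPullback qY g g₀ (c.π.app i₀)) (hX : IsPullback qX f f₀ qY) (x : X)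
    (hx : ∃ U : X.Opens, x ∈ U ∧ P (U.ι ≫ f)) :
    ∃ (j : I) (φ : j ⟶ i₀) (Xj Yj : Scheme.{u}) (fj : Xj ⟶ Yj) (gj : Yj ⟶ D.obj j)
      (pY : Yj ⟶ Y₀) (pX : Xj ⟶ X₀) (rX : X ⟶ Xj), IsPullback pY gj g₀ (D.map φ) ∧
      IsPullback pX fj f₀ pY ∧ rX ≫ pX = qX ∧ rX ≫ fj ≫ gj = f ≫ g ≫ c.π.app j ∧
      ∃ V : Xj.Opens, rX.base x ∈ V ∧ P (V.ι ≫ fj) := by
  have : LocallyOfFinitePresentation f₀ :=
    MorphismProperty.of_postcomp (W' := @LocallyOfFiniteType) @LocallyOfFinitePresentation f₀ g₀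
      (inferInstance : LocallyOfFiniteType g₀) ‹_›
  obtain ⟨U, hxU, hU⟩ := hx
  obtain ⟨W, V, hW, hV, hxW, hWV⟩ := exists_affine_pair f₀ (qX x)
  have : IsAffine (W : Scheme.{u}) := hW
  have : IsAffine (V : Scheme.{u}) := hV
  let u₀ : (W : Scheme.{u}) ⟶ V := IsOpenImmersion.lift V.ι (W.ι ≫ f₀) (by
    rw [Scheme.Opens.range_ι]
    rintro _ ⟨p, rfl⟩
    exact hWV p.2)
  have hu₀ : u₀ ≫ V.ι = W.ι ≫ f₀ := IsOpenImmersion.lift_fac _ _ _
  have hX₁ : IsPullback (pullback.fst W.ι qX) (pullback.snd W.ι qX ≫ f) (W.ι ≫ f₀) qY :=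
    (IsPullback.of_hasPullback W.ι qX).paste_vert hX
  have hW₁ : IsPullback (pullback.fst W.ι qX) ((pullback.snd W.ι qX ≫ f) ≫ g)
      ((W.ι ≫ f₀) ≫ g₀) (c.π.app i₀) := hX₁.paste_vert hY
  obtain ⟨x₁, hx₁⟩ : ∃ x₁, pullback.snd W.ι qX x₁ = x :=
    let ⟨x₁, _, h₂⟩ := Scheme.Pullback.exists_preimage_pullback (f := W.ι) (g := qX) ⟨qX x, hxW⟩ x rfl
    ⟨x₁, h₂⟩
  obtain ⟨U', hU', hxU', hU'U⟩ := Opens.isBasis_iff_nbhd.mp
    (pullback W.ι qX).isBasis_affineOpens (U := pullback.snd W.ι qX ⁻¹ᵁ U) (x := x₁)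
    (show pullback.snd W.ι qX x₁ ∈ U from hx₁ ▸ hxU)
  obtain ⟨k, Vk, hVk, hVkU⟩ : ∃ (k : Over i₀)
      (Vk : (pullback ((W.ι ≫ f₀) ≫ g₀) (D.map k.hom)).Opens), IsCompact Vk.carrier ∧
      (bcCone hW₁).π.app k ⁻¹ᵁ Vk = U' :=
    exists_preimage_eq _ (bcCone hW₁) (isLimitBcCone hc hW₁) U' hU'.isCompact
  -- the new base, at the stage `k`
  let π₁ : pullback W.ι qX ⟶ pullback ((W.ι ≫ f₀) ≫ g₀) (D.map k.hom) := (bcCone hW₁).π.app k
  let qk : Y ⟶ pullback g₀ (D.map k.hom) :=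
    pullback.lift qY (g ≫ c.π.app k.left) (by rw [hY.w, Category.assoc, c.w])
  have hY' : IsPullback qk g (pullback.snd g₀ (D.map k.hom)) (c.π.app k.left) :=
    IsPullback.of_right (by simpa [qk] using hY) (by simp [qk]) (IsPullback.of_hasPullback _ _)
  let m : pullback ((W.ι ≫ f₀) ≫ g₀) (D.map k.hom) ⟶ pullback g₀ (D.map k.hom) :=
    pullback.lift (pullback.fst _ _ ≫ W.ι ≫ f₀) (pullback.snd _ _)
      (by simp only [Category.assoc]; simpa using pullback.condition (f := (W.ι ≫ f₀) ≫ g₀) (g := D.map k.hom))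
  have hm : IsPullback (pullback.fst _ _) m (W.ι ≫ f₀) (pullback.fst g₀ (D.map k.hom)) :=
    IsPullback.of_bot (by simpa [m] using IsPullback.of_hasPullback ((W.ι ≫ f₀) ≫ g₀) (D.map k.hom))
      (by simp [m]) (IsPullback.of_hasPullback _ _)
  have : LocallyOfFinitePresentation m :=
    MorphismProperty.of_isPullback (P := @LocallyOfFinitePresentation) hm inferInstance
  have hπ₁ : IsPullback π₁ (pullback.snd W.ι qX ≫ f) m qk := by
    refine IsPullback.of_right ?_ ?_ hm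
    · simpa [π₁, qk] using hX₁
    · apply pullback.hom_ext <;> simp [π₁, qk, m, hX₁.w]
  have hX' : IsPullback (pullback.fst Vk.ι π₁) (pullback.snd Vk.ι π₁ ≫ pullback.snd W.ι qX ≫ f)
      (Vk.ι ≫ m) qk := (IsPullback.of_hasPullback Vk.ι π₁).paste_vert hπ₁
  let b := pullback.snd V.ι (pullback.fst g₀ (D.map k.hom))
  let u : (Vk : Scheme.{u}) ⟶ pullback V.ι (pullback.fst g₀ (D.map k.hom)) :=
    pullback.lift (Vk.ι ≫ pullback.fst _ _ ≫ u₀) (Vk.ι ≫ m) (by simp [m, hu₀])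
  have : IsAffine (pullback V.ι (pullback.fst g₀ (D.map k.hom))) :=
    have : IsAffineHom (pullback.fst V.ι (pullback.fst g₀ (D.map k.hom))) :=
      MorphismProperty.pullback_fst _ _ (inferInstanceAs (IsAffineHom (pullback.fst g₀ (D.map k.hom))))
    isAffine_of_isAffineHom (pullback.fst V.ι (pullback.fst g₀ (D.map k.hom)))
  have : IsAffineHom (pullback.fst ((W.ι ≫ f₀) ≫ g₀) (D.map k.hom)) :=
    MorphismProperty.pullback_fst _ _ inferInstance
  have : IsAffine (pullback ((W.ι ≫ f₀) ≫ g₀) (D.map k.hom)) :=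
    isAffine_of_isAffineHom (pullback.fst ((W.ι ≫ f₀) ≫ g₀) (D.map k.hom))
  have : CompactSpace (Vk : Scheme.{u}) := isCompact_iff_compactSpace.mp hVk
  have : QuasiSeparatedSpace (Vk : Scheme.{u}) := quasiSeparatedSpace_of_quasiSeparated Vk.ι
  have hP' : P (pullback.snd Vk.ι π₁ ≫ pullback.snd W.ι qX ≫ f) := by
    rw [← Category.assoc]
    refine comp_of_range_le hU _ fun p => ?_
    rw [Scheme.Hom.comp_apply]
    refine hU'U ?_
    rw [← hVkU]
    change π₁ (pullback.snd Vk.ι π₁ p) ∈ Vk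
    rw [← Scheme.Hom.comp_apply, ← pullback.condition, Scheme.Hom.comp_apply]
    exact (pullback.fst Vk.ι π₁ p).2
  obtain ⟨l, ψ, hl⟩ :=
    exists_stage_of_factor h hc u b (by simp [u, b]) hY' hX' hP'
  -- the stage `l`
  let q' := pullback.fst (pullback.snd g₀ (D.map k.hom)) (D.map ψ)
  let pY := q' ≫ pullback.fst g₀ (D.map k.hom)
  have hYl : IsPullback pY (pullback.snd _ _) g₀ (D.map (ψ ≫ k.hom)) := by
    rw [D.map_comp]
    exact (IsPullback.of_hasPullback _ _).paste_horiz (IsPullback.of_hasPullback _ _)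
  let ql : Y ⟶ pullback (pullback.snd g₀ (D.map k.hom)) (D.map ψ) :=
    pullback.lift qk (g ≫ c.π.app l) (by rw [hY'.w, Category.assoc, c.w])
  let rX : X ⟶ pullback f₀ pY :=
    pullback.lift qX (f ≫ ql) (by simp [pY, q', ql, qk, hX.w])
  let e₂ : pullback m q' ⟶ pullback f₀ pY :=
    pullback.lift (pullback.fst m q' ≫ pullback.fst _ _ ≫ W.ι) (pullback.snd m q')
      (by simp only [pY, Category.assoc]; rw [← pullback.condition_assoc (f := m)]; simp [m])
  have he₂ : IsPullback (pullback.fst m q' ≫ pullback.fst _ _) e₂ W.ι (pullback.fst f₀ pY) := by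
    refine IsPullback.of_bot ?_ (by simp [e₂]) (IsPullback.of_hasPullback f₀ pY)
    simpa [e₂, pY] using (IsPullback.of_hasPullback m q').paste_horiz hm
  have : IsOpenImmersion e₂ := MorphismProperty.of_isPullback (P := @IsOpenImmersion) he₂ inferInstance
  have hZ := (IsPullback.of_hasPullback Vk.ι (pullback.fst m q')).paste_vert
    (IsPullback.of_hasPullback m q')
  let e := pullback.snd Vk.ι (pullback.fst m q') ≫ e₂
  have hPe : P (e ≫ pullback.snd f₀ pY) := by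
    simp only [e, e₂, Category.assoc, pullback.lift_snd]
    rwa [← hZ.isoPullback_hom_snd, P.cancel_left_of_respectsIso]
  refine ⟨l, ψ ≫ k.hom, _, _, pullback.snd f₀ pY, _, pY, pullback.fst f₀ pY, rX, hYl,
    IsPullback.of_hasPullback _ _, by simp [rX], by simp [rX, ql], e.opensRange, ?_, ?_⟩
  · obtain ⟨x₂, hx₂⟩ : ∃ x₂, pullback.snd Vk.ι π₁ x₂ = x₁ := by
      have hx₁k : π₁ x₁ ∈ Vk := hVkU.ge hxU'
      obtain ⟨x₂, _, h₂⟩ :=
        Scheme.Pullback.exists_preimage_pullback (f := Vk.ι) (g := π₁) ⟨π₁ x₁, hx₁k⟩ x₁ rfl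
      exact ⟨x₂, h₂⟩
    let r₂ : pullback W.ι qX ⟶ pullback m q' :=
      pullback.lift π₁ (pullback.snd W.ι qX ≫ f ≫ ql) (by simp [q', ql, hπ₁.w])
    let r : pullback Vk.ι π₁ ⟶ pullback Vk.ι (pullback.fst m q') :=
      pullback.lift (pullback.fst _ _) (pullback.snd _ _ ≫ r₂) (by simp [r₂, pullback.condition])
    have hr : r ≫ e = (pullback.snd Vk.ι π₁ ≫ pullback.snd W.ι qX) ≫ rX := by
      apply pullback.hom_ext <;> simp [r, e, e₂, r₂, rX, π₁, pullback.condition]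
    refine ⟨r x₂, ?_⟩
    rw [← hx₁, ← hx₂]
    exact congr($hr x₂)
  · exact opensRange_ι_comp hPe

end Groth.Agent.Unram17Lim
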